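import Mathlib

/-!
# The arithmetic of the degrees for a field automorphism of large prime order (helper377)

`|G| = Q ^ N ∏ (Q ^ d i - 1)`, `|D| = q ^ N ∏ (q ^ d i - 1)`, `Q = q ^ m`, `m > 2 |D|` prime: every prime divisor of
`∏ (Q ^ d i - 1) / (q ^ d i - 1)` is `1` modulo `m`, so a `p'`-divisor of `|G|` is congruent to a `p'`-divisor of
`|D|` modulo `m`.
-/

set_option autoImplicit false

namespace Cfsg.Agent.H377.GL

theorem modEq_one_of_primes {m : ℕ} (n : ℕ) (h : ∀ l : ℕ, l.Prime → l ∣ n → l ≡ 1 [MOD m]) (hn : n ≠ 0) :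
    n ≡ 1 [MOD m] := by
  induction n using Nat.recOnMul with
  | zero => exact absurd rfl hn
  | one => rfl
  | prime l hl => exact h l hl dvd_rfl
  | mul a b iha ihb =>
    have ha : a ≠ 0 := fun h0 => hn (by rw [h0, zero_mul])
    have hb : b ≠ 0 := fun h0 => hn (by rw [h0, mul_zero])
    exact (iha (fun l hl hla => h l hl (hla.mul_right b)) ha).mul
      (ihb (fun l hl hlb => h l hl (hlb.mul_left a)) hb)

theorem arith_main {m p : ℕ} (hp : p.Prime) {NG ND A K s t : ℕ} (hG : NG = p ^ s * (A * K))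
    (hD : ND = p ^ t * A) (hA : A ≠ 0) (hK0 : K ≠ 0) (hK : ∀ l : ℕ, l.Prime → l ∣ K → l ≡ 1 [MOD m])
    (hl : 2 * ND < m) (a b : ℕ) (ha : a ∣ NG) (hpa : ¬ p ∣ a) (hb : b ∣ ND)
    (hab : (m : ℤ) ∣ a - b ∨ (m : ℤ) ∣ a + b) : ¬ p ∣ b := by
  have hp0 : 0 < p := hp.pos
  have hAD : A ≤ ND := by
    rw [hD]
    exact Nat.le_mul_of_pos_left _ (pow_pos hp0 _)
  have hND : 0 < ND := (Nat.pos_of_ne_zero hA).trans_le hAD
  have hbpos : 0 < b := Nat.pos_of_dvd_of_pos hb hND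
  have hb1 : b ≤ ND := Nat.le_of_dvd hND hb
  have h1 : a ∣ A * K := by
    rw [hG] at ha
    exact (Nat.Coprime.pow_right s ((Nat.Prime.coprime_iff_not_dvd hp).2 hpa).symm).dvd_of_dvd_mul_left ha
  have ha0 : a ≠ 0 := by
    rintro rfl
    rw [zero_dvd_iff] at h1
    exact (mul_ne_zero hA hK0) h1
  have hgpos : 0 < a.gcd A := Nat.gcd_pos_of_pos_left _ (Nat.pos_of_ne_zero ha0)
  have h2 : a / a.gcd A ∣ K := by
    have h3 : (a / a.gcd A).Coprime (A / a.gcd A) := Nat.coprime_div_gcd_div_gcd hgpos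
    refine h3.dvd_of_dvd_mul_left ?_
    have h4 : a.gcd A * (a / a.gcd A) ∣ a.gcd A * ((A / a.gcd A) * K) := by
      rw [Nat.mul_div_cancel' (Nat.gcd_dvd_left a A), ← mul_assoc, Nat.mul_div_cancel' (Nat.gcd_dvd_right a A)]
      exact h1
    exact Nat.dvd_of_mul_dvd_mul_left hgpos h4
  have h3 : a / a.gcd A ≡ 1 [MOD m] :=
    modEq_one_of_primes _ (fun l hl hla => hK l hl (hla.trans h2)) (fun h0 => by
      rw [h0, zero_dvd_iff] at h2
      exact hK0 h2)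
  have h4 : a ≡ a.gcd A [MOD m] := by
    have h5 := h3.mul_left (a.gcd A)
    rwa [Nat.mul_div_cancel' (Nat.gcd_dvd_left a A), mul_one] at h5
  have h5 : (m : ℤ) ∣ a - a.gcd A := (Nat.modEq_iff_dvd.1 h4.symm)
  have hgA : a.gcd A ≤ ND := (Nat.le_of_dvd (Nat.pos_of_ne_zero hA) (Nat.gcd_dvd_right a A)).trans hAD
  have h6 : a.gcd A = b := by
    rcases hab with h7 | h7
    · have h8 : (m : ℤ) ∣ (a.gcd A : ℤ) - b := by
        have := dvd_sub h7 h5
        have e : ((a : ℤ) - b) - (a - a.gcd A) = (a.gcd A : ℤ) - b := by ring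
        rwa [e] at this
      have h9 : (a.gcd A : ℤ) - b = 0 := by
        refine Int.eq_zero_of_abs_lt_dvd h8 ?_
        rw [abs_lt]
        constructor <;> omega
      omega
    · exfalso
      have h8 : (m : ℤ) ∣ (a.gcd A : ℤ) + b := by
        have := dvd_sub h7 h5
        have e : ((a : ℤ) + b) - (a - a.gcd A) = (a.gcd A : ℤ) + b := by ring
        rwa [e] at this
      have h9 := Int.le_of_dvd (by omega) h8
      omega
  rw [← h6]
  exact fun h => hpa (h.trans (Nat.gcd_dvd_left a A))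

/-- prime divisors of `1 + x + ⋯ + x ^ (m - 1)` -/
theorem geom_prime {m x l : ℕ} (hm : m.Prime) (hx : ¬ m ∣ x - 1) (hx1 : 1 ≤ x) (hl : l.Prime)
    (h : l ∣ ∑ j ∈ Finset.range m, x ^ j) : l ≡ 1 [MOD m] := by
  have : Fact l.Prime := ⟨hl⟩
  have : Fact m.Prime := ⟨hm⟩
  have h1 : (∑ j ∈ Finset.range m, (x : ZMod l) ^ j) = 0 := by
    have h2 := (ZMod.natCast_eq_zero_iff (∑ j ∈ Finset.range m, x ^ j) l).2 h
    push_cast at h2
    exact h2
  have h2 : (x : ZMod l) ^ m = 1 := by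
    have h3 := geom_sum_mul (x : ZMod l) m
    rw [h1, zero_mul] at h3
    exact (sub_eq_zero.1 h3.symm)
  have h3 : (x : ZMod l) ≠ 0 := by
    intro h0
    rw [h0, zero_pow hm.ne_zero] at h2
    exact zero_ne_one h2
  let u : (ZMod l)ˣ := Units.mk0 _ h3
  have h4 : u ^ m = 1 := Units.ext (by simpa [u] using h2)
  have h5 : u ≠ 1 := by
    intro h6
    have h7 : (x : ZMod l) = 1 := by
      have := congrArg Units.val h6
      simpa [u] using this
    rw [h7] at h1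
    simp only [one_pow, Finset.sum_const, Finset.card_range, nsmul_eq_mul, mul_one] at h1
    have h8 : l = m := (Nat.prime_dvd_prime_iff_eq hl hm).1 ((ZMod.natCast_eq_zero_iff _ _).1 h1)
    apply hx
    rw [← h8]
    have h9 : ((x - 1 : ℕ) : ZMod l) = 0 := by
      rw [Nat.cast_sub hx1, h7]
      simp
    exact (ZMod.natCast_eq_zero_iff _ _).1 h9
  have h6 : orderOf u = m := orderOf_eq_prime h4 h5
  have h7 : m ∣ l - 1 := by
    rw [← h6, ← ZMod.card_units l]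
    exact orderOf_dvd_card
  exact ((Nat.modEq_iff_dvd' hl.one_lt.le).2 h7).symm

/-- **the arithmetic for groups of Lie type** -/
theorem arith_lie {J : Type*} [Fintype J] (d : J → ℕ) (hd : ∀ i, 0 < d i) {m p q f N : ℕ} (hm : m.Prime)
    (hp : p.Prime) (hq : q = p ^ f) (hq1 : 1 < q) {NG ND : ℕ}
    (hG : NG = (q ^ m) ^ N * ∏ i, ((q ^ m) ^ d i - 1)) (hD : ND = q ^ N * ∏ i, (q ^ d i - 1))
    (hl : 2 * ND < m) (hmp : m ≠ p) :
    ¬ m ∣ NG ∧ ∀ a b : ℕ, a ∣ NG → ¬ p ∣ a → b ∣ ND →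
      ((m : ℤ) ∣ a - b ∨ (m : ℤ) ∣ a + b) → ¬ p ∣ b := by
  have hpos : ∀ i, 0 < q ^ d i - 1 := fun i => by
    have := Nat.one_lt_pow (hd i).ne' hq1
    omega
  have hA0 : (∏ i, (q ^ d i - 1)) ≠ 0 := Finset.prod_ne_zero_iff.2 fun i _ => (hpos i).ne'
  have hlt : ∀ i, q ^ d i - 1 < m := by
    intro i
    have h1 : q ^ d i - 1 ≤ ∏ i, (q ^ d i - 1) :=
      Nat.le_of_dvd (Nat.pos_of_ne_zero hA0) (Finset.dvd_prod_of_mem _ (Finset.mem_univ i))
    have h2 : (∏ i, (q ^ d i - 1)) ≤ ND := by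
      rw [hD]
      exact Nat.le_mul_of_pos_left _ (pow_pos (by omega) _)
    omega
  have hnd : ∀ i, ¬ m ∣ q ^ d i - 1 := fun i h =>
    absurd (Nat.le_of_dvd (hpos i) h) (not_le.2 (hlt i))
  have hgeom : ∀ i, (q ^ m) ^ d i - 1 = (q ^ d i - 1) * ∑ j ∈ Finset.range m, (q ^ d i) ^ j := by
    intro i
    have h1 : 1 ≤ q ^ d i := Nat.one_le_pow _ _ (by omega)
    have h2 := Nat.geomSum_eq (m := q ^ d i) (by have := Nat.one_lt_pow (hd i).ne' hq1; omega) m
    rw [← pow_mul, mul_comm m, pow_mul, h2, Nat.mul_div_cancel']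
    simpa using Nat.sub_dvd_pow_sub_pow (q ^ d i) 1 m
  have hG' : NG = p ^ (f * m * N) * ((∏ i, (q ^ d i - 1)) *
      ∏ i, ∑ j ∈ Finset.range m, (q ^ d i) ^ j) := by
    rw [hG, ← Finset.prod_mul_distrib, hq, ← pow_mul, ← pow_mul]
    rw [hq] at hgeom
    rw [Finset.prod_congr rfl fun i _ => by rw [hgeom i], mul_assoc f m N]
  have hD' : ND = p ^ (f * N) * ∏ i, (q ^ d i - 1) := by
    rw [hD, pow_mul, ← hq]
  have hK0 : (∏ i, ∑ j ∈ Finset.range m, (q ^ d i) ^ j) ≠ 0 := by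
    refine Finset.prod_ne_zero_iff.2 fun i _ => ?_
    have h1 : 0 < ∑ j ∈ Finset.range m, (q ^ d i) ^ j :=
      Finset.sum_pos (fun j _ => pow_pos (pow_pos (by omega) _) _) ⟨0, Finset.mem_range.2 hm.pos⟩
    exact h1.ne'
  have hK : ∀ l : ℕ, l.Prime → l ∣ (∏ i, ∑ j ∈ Finset.range m, (q ^ d i) ^ j) → l ≡ 1 [MOD m] := by
    intro l hl hlK
    obtain ⟨i, -, hi⟩ := (Prime.dvd_finsetProd_iff hl.prime _).1 hlK
    exact geom_prime hm (hnd i) (Nat.one_le_pow _ _ (by omega)) hl hi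
  constructor
  · intro h
    rw [hG'] at h
    rcases hm.dvd_mul.1 h with h1 | h1
    · exact hmp ((Nat.prime_dvd_prime_iff_eq hm hp).1 (hm.dvd_of_dvd_pow h1))
    · rcases hm.dvd_mul.1 h1 with h2 | h2
      · obtain ⟨i, -, hi⟩ := (Prime.dvd_finsetProd_iff hm.prime _).1 h2
        exact hnd i hi
      · have h3 := hK m hm h2
        have h4 : (0 : ℕ) ≡ 1 [MOD m] := by
          have h5 : m ≡ 0 [MOD m] := by simp [Nat.ModEq]
          exact h5.symm.trans h3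
        have h5 := (Nat.modEq_iff_dvd' (by omega)).1 h4
        exact hm.one_lt.ne' (Nat.dvd_one.1 (by simpa using h5))
  · exact arith_main hp hG' hD' hA0 hK0 hK hl

end Cfsg.Agent.H377.GL
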